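/-
Chain-connectedness of Sylow subgroups and strongly p-embedded subgroups.
-/
import Cfsg.Prelude.Def_SylowChains
import Cfsg.Agent.Lib.LocalEven.SylowAux
import Cfsg.Agent.Lib.Transfer.Basic

set_option autoImplicit false
set_option linter.unusedSectionVars false

namespace Cfsg.Agent.SylowConn

open scoped Pointwise

variable {G : Type*} [Group G] [Finite G] {p : ℕ} [Fact p.Prime]

/-- The classical definition of a strongly `p`-embedded subgroup. -/
def IsSE (p : ℕ) (H : Subgroup G) : Prop :=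
  H ≠ ⊤ ∧ p ∣ Nat.card H ∧
    ∀ g : G, g ∉ H → ¬ p ∣ Nat.card ↥(H ⊓ H.map (MulAut.conj g).toMonoidHom)

variable {H : Subgroup G}

theorem IsSE.normalizer_le (h : IsSE p H) {A : Subgroup G} (hA : A ≤ H) (hp : IsPGroup p ↥A)
    (h1 : A ≠ ⊥) : Subgroup.normalizer (A : Set G) ≤ H := by
  intro n hn
  by_contra hnH
  refine h.2.2 n hnH ((LESylow.dvd_card_of_ne_bot hp h1).trans (Subgroup.card_dvd_of_le (le_inf hA ?_)))
  exact (LEBasic.map_conj_eq_iff_mem_normalizer.2 hn).ge.trans (LEBasic.map_conj_mono n hA)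

/-- A `p`-group meeting `H` nontrivially lies in `H`. -/
theorem IsSE.le_of_inf_ne_bot (h : IsSE p H) {R : Subgroup G} (hR : IsPGroup p ↥R)
    (h1 : R ⊓ H ≠ ⊥) : R ≤ H := by
  have heq : R ⊓ H = R := LESylow.eq_of_normalizer_inf_le hR inf_le_left fun x hx =>
    Subgroup.mem_inf.2 ⟨(Subgroup.mem_inf.1 hx).1,
      h.normalizer_le inf_le_right (hR.to_le inf_le_left) h1 (Subgroup.mem_inf.1 hx).2⟩
  exact heq ▸ inf_le_right

theorem IsSE.exists_sylow_le (h : IsSE p H) : ∃ P : Sylow p G, (P : Subgroup G) ≤ H := by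
  obtain ⟨a, ha, hap⟩ := LESylow.exists_orderOf_eq (p := p) h.2.1
  obtain ⟨P, hP⟩ :=
    (LESylow.isPGroup_zpowers (k := 1) (by rw [hap, pow_one]) : IsPGroup p ↥(Subgroup.zpowers a)).exists_le_sylow
  refine ⟨P, h.le_of_inf_ne_bot P.isPGroup' fun hb => ?_⟩
  have : a ∈ (⊥ : Subgroup G) := hb ▸ Subgroup.mem_inf.2 ⟨hP (Subgroup.mem_zpowers a), ha⟩
  rw [Subgroup.mem_bot] at this
  rw [this, orderOf_one] at hap
  exact (Fact.out : p.Prime).ne_one hap.symm

theorem IsSE.not_connected (h : IsSE p H) : ¬ Cfsg.IsSylowChainConnected p G := by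
  intro hc
  obtain ⟨P, hP⟩ := h.exists_sylow_le
  obtain ⟨g, hg⟩ := SetLike.exists_of_lt (lt_top_iff_ne_top.2 h.1)
  obtain ⟨Q, hQ⟩ := LESylow.exists_sylow_conj P g
  obtain ⟨n, c, h0, hn, -, hadj⟩ := hc P Q
  have key : ∀ i : Fin (n + 1), (c i : Subgroup G) ≤ H := by
    intro i
    induction i using Fin.induction with
    | zero => rw [h0]; exact hP
    | succ i ih =>
      refine h.le_of_inf_ne_bot (c i.succ).isPGroup' fun hb => (hadj i).2 ?_
      rw [eq_bot_iff, ← hb]
      exact le_inf inf_le_right (inf_le_left.trans ih)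
  have hQH : (Q : Subgroup G) ≤ H := hn ▸ key (Fin.last n)
  refine h.2.2 g hg.2 ((P.dvd_card_of_dvd_card (h.2.1.trans (Subgroup.card_subgroup_dvd_card H))).trans ?_)
  rw [← LEBasic.card_map_conj (P : Subgroup G) g, ← hQ]
  exact Subgroup.card_dvd_of_le (le_inf hQH (hQ ▸ LEBasic.map_conj_mono g hP))

/-- Adjacency in the graph on Sylow subgroups. -/
def Adj (S T : Sylow p G) : Prop := S ≠ T ∧ (S : Subgroup G) ⊓ (T : Subgroup G) ≠ ⊥

/-- Connectedness in the graph on Sylow subgroups. -/
def Conn (S T : Sylow p G) : Prop := Relation.ReflTransGen Adj S T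

theorem Conn.of_inf {S T : Sylow p G} (h : (S : Subgroup G) ⊓ (T : Subgroup G) ≠ ⊥) : Conn S T := by
  by_cases he : S = T
  · subst he; exact Relation.ReflTransGen.refl
  · exact Relation.ReflTransGen.single ⟨he, h⟩

theorem Conn.of_mem {S T : Sylow p G} {a : G} (ha1 : a ≠ 1) (hS : a ∈ (S : Subgroup G))
    (hT : a ∈ (T : Subgroup G)) : Conn S T :=
  Conn.of_inf fun hb => ha1 (Subgroup.mem_bot.1 (hb ▸ Subgroup.mem_inf.2 ⟨hS, hT⟩))

theorem Conn.symm {S T : Sylow p G} (h : Conn S T) : Conn T S := by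
  induction h with
  | refl => exact Relation.ReflTransGen.refl
  | tail _ hab ih => exact Relation.ReflTransGen.head ⟨hab.1.symm, by rw [inf_comm]; exact hab.2⟩ ih

theorem Conn.trans' {S T U : Sylow p G} (h : Conn S T) (h' : Conn T U) : Conn S U :=
  Relation.ReflTransGen.trans h h'

theorem coe_smul' (g : G) (S : Sylow p G) :
    ((g • S : Sylow p G) : Subgroup G) = (S : Subgroup G).map (MulAut.conj g).toMonoidHom := by
  rw [Sylow.smul_def, Sylow.pointwise_smul_def, Subgroup.pointwise_smul_def]; rfl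

theorem Conn.smul {S T : Sylow p G} (g : G) (h : Conn S T) : Conn (g • S) (g • T) := by
  induction h with
  | refl => exact Relation.ReflTransGen.refl
  | tail _ hab ih =>
    refine Relation.ReflTransGen.tail ih ⟨fun he => hab.1 (MulAction.injective g he), fun hb => hab.2 ?_⟩
    rw [coe_smul', coe_smul',
      ← Subgroup.map_inf _ _ _ (MulAut.conj g).injective] at hb
    exact (Subgroup.map_eq_bot_iff_of_injective _ (MulAut.conj g).injective).1 hb

/-- Stabiliser of the component of `S`. -/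
def compStab (S : Sylow p G) : Subgroup G where
  carrier := {g | Conn S (g • S)}
  one_mem' := by show Conn S ((1 : G) • S); rw [one_smul]; exact Relation.ReflTransGen.refl
  mul_mem' {a b} ha hb := by
    show Conn S ((a * b) • S)
    rw [mul_smul]
    exact ha.trans' (hb.smul a)
  inv_mem' {a} ha := by
    have := (Conn.smul a⁻¹ ha).symm
    rwa [inv_smul_smul] at this

theorem le_compStab (S : Sylow p G) : (S : Subgroup G) ≤ compStab S := by
  intro s hs
  show Conn S (s • S)
  rw [Sylow.smul_eq_iff_mem_normalizer.2 (Subgroup.le_normalizer hs)]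
  exact Relation.ReflTransGen.refl

/-- An element of prime order of the stabiliser lies in a Sylow subgroup of the component. -/
theorem exists_conn_of_mem_compStab (S : Sylow p G) {a : G} (ha : a ∈ compStab S)
    (hap : orderOf a = p) : ∃ h ∈ compStab S, a ∈ ((h • S : Sylow p G) : Subgroup G) := by
  obtain ⟨m, hm, hle⟩ := LESylow.exists_conj_le_of_le (Subgroup.zpowers_le.2 ha)
    (LESylow.isPGroup_zpowers (k := 1) (by rw [hap, pow_one])) (S.subtype (le_compStab S))
  rw [Sylow.coe_subtype, Subgroup.map_subgroupOf_eq_of_le (le_compStab S)] at hle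
  refine ⟨m⁻¹, inv_mem hm, ?_⟩
  rw [coe_smul', LEBasic.mem_map_conj]
  exact hle ⟨a, Subgroup.mem_zpowers a, by simp⟩

theorem exists_se {S T : Sylow p G} (h : ¬ Conn S T) : IsSE p (compStab S) := by
  obtain ⟨g, rfl⟩ := MulAction.exists_smul_eq G S T
  have hS1 : (S : Subgroup G) ≠ ⊥ := by
    intro hb
    refine h ?_
    have : g • S = S := Sylow.smul_eq_iff_mem_normalizer.2 (by
      show g ∈ Subgroup.normalizer ((S : Subgroup G) : Set G)
      rw [hb]
      exact Subgroup.mem_normalizer_iff.2 fun y => by simp)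
    rw [this]
    exact Relation.ReflTransGen.refl
  refine ⟨fun ht => h (show g ∈ compStab S from ht ▸ Subgroup.mem_top g),
    (LESylow.dvd_card_of_ne_bot S.isPGroup' hS1).trans (Subgroup.card_dvd_of_le (le_compStab S)), ?_⟩
  intro x hx hd
  obtain ⟨a, ha, hap⟩ := LESylow.exists_orderOf_eq hd
  obtain ⟨ha1, ha2⟩ := Subgroup.mem_inf.1 ha
  rw [LEBasic.mem_map_conj] at ha2
  obtain ⟨k, hk, hak⟩ := exists_conn_of_mem_compStab S ha1 hap
  obtain ⟨l, hl, hal⟩ := exists_conn_of_mem_compStab S ha2 (by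
    rw [← hap, show x⁻¹ * a * x = (MulAut.conj x⁻¹).toMonoidHom a by simp,
      orderOf_injective _ (MulAut.conj x⁻¹).injective])
  have hal' : a ∈ (((x * l) • S : Sylow p G) : Subgroup G) := by
    rw [mul_smul, coe_smul' x, LEBasic.mem_map_conj]; exact hal
  have ha0 : a ≠ 1 := by
    rintro rfl; rw [orderOf_one] at hap; exact (Fact.out : p.Prime).ne_one hap.symm
  have hxl : x * l ∈ compStab S := Conn.trans' hk (Conn.of_mem ha0 hak hal')
  exact hx (by simpa using mul_mem hxl (inv_mem hl))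

theorem connected_of_conn (h : ∀ S T : Sylow p G, Conn S T) : Cfsg.IsSylowChainConnected p G := by
  intro S T
  by_cases he : S = T
  · subst he
    exact ⟨0, fun _ => S, rfl, rfl, fun _ => inf_le_left, fun i => i.elim0⟩
  by_cases hb : (S : Subgroup G) ⊓ (T : Subgroup G) = ⊥
  · have key : ∀ T : Sylow p G, Conn S T → ∃ (n : ℕ) (c : Fin (n + 1) → Sylow p G), c 0 = S ∧
        c (Fin.last n) = T ∧ ∀ i : Fin n, Adj (c i.castSucc) (c i.succ) := by
      intro T hT
      induction hT with
      | refl => exact ⟨0, fun _ => S, rfl, rfl, fun i => i.elim0⟩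
      | @tail U V _ hab ih =>
        obtain ⟨n, c, h0, hn, hadj⟩ := ih
        refine ⟨n + 1, Fin.snoc c V, ?_, Fin.snoc_last _ _, fun i => ?_⟩
        · rw [← Fin.castSucc_zero, Fin.snoc_castSucc, h0]
        · induction i using Fin.lastCases with
          | last => rw [Fin.snoc_castSucc, Fin.succ_last, Fin.snoc_last, hn]; exact hab
          | cast i =>
            rw [Fin.snoc_castSucc, Fin.succ_castSucc, Fin.snoc_castSucc]; exact hadj i
    obtain ⟨n, c, h0, hn, hadj⟩ := key T (h S T)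
    exact ⟨n, c, h0, hn, fun i => hb ▸ bot_le, fun i => hadj i⟩
  · refine ⟨1, ![S, T], rfl, rfl, fun i => ?_, fun i => ?_⟩
    · fin_cases i
      · exact inf_le_left
      · exact inf_le_right
    · fin_cases i
      exact ⟨he, hb⟩

theorem not_connected_iff : ¬ Cfsg.IsSylowChainConnected p G ↔ ∃ H : Subgroup G, IsSE p H := by
  constructor
  · intro h
    by_contra hno
    refine h (connected_of_conn fun S T => ?_)
    by_contra hST
    exact hno ⟨_, exists_se hST⟩
  · rintro ⟨H, hH⟩
    exact hH.not_connected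

theorem IsSE.sup_pResidual (h : IsSE p H) (N : Subgroup G) [N.Normal] (hN : p ∣ Nat.card N) :
    H ⊔ Subgroup.closure {g : G | g ∈ N ∧ (orderOf g).Coprime p} = ⊤ := by
  obtain ⟨P, hP⟩ := h.exists_sylow_le
  obtain ⟨Q, hQ⟩ := PBasic.exists_sylow_subgroupOf P N
  set K := Subgroup.closure {g : G | g ∈ N ∧ (orderOf g).Coprime p}
  have hQ1 : (Q : Subgroup ↥N).map N.subtype ≠ ⊥ := by
    rw [ne_eq, Subgroup.map_eq_bot_iff_of_injective _ N.subtype_injective]
    exact Q.ne_bot_of_dvd_card hN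
  have hQH : (Q : Subgroup ↥N).map N.subtype ≤ H := by
    rw [hQ]
    rintro _ ⟨x, hx, rfl⟩
    exact hP hx
  have hres : (Cfsg.pResidual p ↥N).map N.subtype ≤ K := by
    rw [Cfsg.pResidual, MonoidHom.map_closure]
    refine Subgroup.closure_mono ?_
    rintro _ ⟨x, hx, rfl⟩
    exact ⟨x.2, by rw [Subgroup.coe_subtype, Subgroup.orderOf_coe]; exact hx⟩
  have hNle : N ≤ H ⊔ K := by
    have h1 := congrArg (Subgroup.map N.subtype) (PBasic.sylow_sup_pResidual Q)
    rw [Subgroup.map_sup, ← MonoidHom.range_eq_map, Subgroup.range_subtype] at h1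
    exact h1.ge.trans (sup_le_sup hQH hres)
  rw [eq_top_iff]
  intro g _
  have hNn : (Q : Subgroup ↥N).map N.subtype ⊔ N ≤ H ⊔ K :=
    sup_le (hQH.trans le_sup_left) hNle
  have hg : g ∈ Subgroup.normalizer ((Q : Subgroup ↥N).map N.subtype : Set G) ⊔ N := by
    rw [Sylow.normalizer_sup_eq_top Q]; trivial
  exact sup_le ((h.normalizer_le hQH (Q.isPGroup'.map _) hQ1).trans le_sup_left) hNle hg

end Cfsg.Agent.SylowConn
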