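/-
Strongly p-embedded subgroups: p'-subgroups, normal subgroups, p-solvable groups.
-/
import Cfsg.Agent.Lib.SylowChains.Basic
import Cfsg.Agent.Lib.Signalizer.Basic
import Cfsg.Agent.Lib.Solvable.FixedPointFree
import Cfsg.Agent.Lib.PLocal.PSolvable
import Cfsg.Agent.Lib.FGBasics.Sylow
import Cfsg.Agent.Lib.CharP.Product

namespace Cfsg.Agent.SylowConn

open Subgroup
open scoped Pointwise

variable {G : Type*} [Group G] [Finite G] {p : ℕ} [Fact p.Prime] {H : Subgroup G}

omit [Finite G] [Fact p.Prime] in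
theorem centralizer_singleton_le (a : G) :
    centralizer ({a} : Set G) ≤ normalizer (zpowers a : Set G) := by
  refine le_trans ?_ (centralizer_le_normalizer _)
  intro g hg
  refine mem_centralizer_iff.2 fun y hy => ?_
  obtain ⟨i, rfl⟩ := mem_zpowers_iff.1 hy
  exact ((show Commute a g from mem_centralizer_iff.1 hg a rfl).zpow_left i).eq

/-- A `p'`-subgroup normalised by a noncyclic abelian `p`-subgroup of `H` lies in `H`. -/
theorem IsSE.pPrime_le (h : IsSE p H) {A K : Subgroup G} [IsMulCommutative A] (hA : A ≤ H)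
    (hAp : IsPGroup p A) (hnc : ¬ IsCyclic A) (hAK : A ≤ normalizer (K : Set G))
    (hK : ¬ p ∣ Nat.card K) : K ≤ H := by
  rw [← CoprimeAct.generated_by_centralizers (A := A) (K := K) hnc hAK
    (Signalizer.coprime_card hAp hK)]
  refine iSup₂_le fun a ha => inf_le_right.trans ((centralizer_singleton_le a).trans ?_)
  exact h.normalizer_le (zpowers_le.2 (hA ha.1)) (hAp.to_le (zpowers_le.2 ha.1))
    (zpowers_ne_bot.2 ha.2)

theorem IsSE.mem_of_conj (h : IsSE p H) {y g : G} (hy : y ∈ H) (hp : orderOf y = p)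
    (hg : g * y * g⁻¹ ∈ H) : g ∈ H := by
  by_contra hgH
  refine h.2.2 g hgH ?_
  rw [← hp, ← MulEquiv.orderOf_eq (MulAut.conj g) y]
  exact orderOf_dvd_natCard _ (mem_inf.2 ⟨hg, y, hy, rfl⟩)

theorem exists_order_inf (P : Sylow p G) (N : Subgroup G) [N.Normal] (hN : p ∣ Nat.card N) :
    ∃ x, x ∈ (P : Subgroup G) ⊓ N ∧ orderOf x = p := by
  obtain ⟨Q, hQ⟩ := PBasic.exists_sylow_subgroupOf P N
  refine LESylow.exists_orderOf_eq ?_
  have h1 := Q.dvd_card_of_dvd_card hN
  rwa [hQ, ← card_map_of_injective (f := N.subtype) N.subtype_injective, subgroupOf_map_subtype] at h1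

theorem IsSE.dvd_card_inf (h : IsSE p H) (N M : Subgroup G) [N.Normal] [M.Normal]
    (hN : p ∣ Nat.card N) (hM : p ∣ Nat.card M) : p ∣ Nat.card ↥(N ⊓ M) := by
  by_contra hK
  have hp : p.Prime := Fact.out
  obtain ⟨P, hP⟩ := h.exists_sylow_le
  obtain ⟨x, hx, hxp⟩ := exists_order_inf P N hN
  obtain ⟨y, hy, hyp⟩ := exists_order_inf P M hM
  have hdisj : ∀ z ∈ (P : Subgroup G), z ∈ N ⊓ M → z = 1 := fun z hzP hzK =>
    PBasic.eq_one_of_isPGroup_of_coprime P.isPGroup' hzP
      (PBasic.coprime_orderOf_of_mem (hp.coprime_iff_not_dvd.2 hK).symm hzK)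
  have hxy : x * y = y * x := by
    have h1 : x * y * x⁻¹ * y⁻¹ = 1 := by
      refine hdisj _ (mul_mem (mul_mem (mul_mem hx.1 hy.1) (inv_mem hx.1)) (inv_mem hy.1))
        (mem_inf.2 ⟨?_, ?_⟩)
      · rw [show x * y * x⁻¹ * y⁻¹ = x * (y * x⁻¹ * y⁻¹) by group]
        exact N.mul_mem hx.2 (Normal.conj_mem inferInstance x⁻¹ (N.inv_mem hx.2) y)
      · exact M.mul_mem (Normal.conj_mem inferInstance y hy.2 x) (M.inv_mem hy.2)
    rwa [mul_inv_eq_one, mul_inv_eq_iff_eq_mul] at h1
  have hyx : y ∈ centralizer (zpowers x : Set G) := mem_centralizer_iff.2 fun u hu => by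
    obtain ⟨i, rfl⟩ := mem_zpowers_iff.1 hu
    exact ((show Commute x y from hxy).zpow_left i).eq
  set A := zpowers x ⊔ zpowers y with hAdef
  have hprod : ((zpowers x ⊔ zpowers y : Subgroup G) : Set G) =
      (zpowers x : Set G) * (zpowers y : Set G) :=
    coe_mul_of_right_le_normalizer_left _ _
      ((zpowers_le.2 hyx).trans (centralizer_le_normalizer _))
  have hEA : Cfsg.IsElementaryAbelian p A := by
    have hab : A ≤ centralizer (A : Set G) := by
      rw [hAdef, le_centralizer_iff]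
      refine sup_le ?_ ?_ <;> rw [le_centralizer_iff] <;> refine sup_le ?_ ?_ <;>
        rw [zpowers_le, mem_centralizer_iff] <;> intro u hu <;>
        obtain ⟨i, rfl⟩ := mem_zpowers_iff.1 hu
      · exact ((Commute.refl x).zpow_left i).eq
      · exact ((show Commute x y from hxy).zpow_left i).eq
      · exact ((show Commute y x from hxy.symm).zpow_left i).eq
      · exact ((Commute.refl y).zpow_left i).eq
    refine ⟨le_centralizer_iff_isMulCommutative.1 hab, fun a ha => ?_⟩
    have : a ∈ (zpowers x : Set G) * (zpowers y : Set G) := hprod ▸ ha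
    obtain ⟨u, hu, v, hv, rfl⟩ := this
    obtain ⟨i, rfl⟩ := mem_zpowers_iff.1 hu
    obtain ⟨j, rfl⟩ := mem_zpowers_iff.1 hv
    rw [((show Commute x y from hxy).zpow_zpow i j).mul_pow, ← zpow_natCast, ← zpow_natCast,
      ← zpow_mul, ← zpow_mul, mul_comm i, mul_comm j, zpow_mul, zpow_mul, zpow_natCast, zpow_natCast,
      ← hxp, pow_orderOf_eq_one, hxp, ← hyp, pow_orderOf_eq_one]
    simp
  have hinf : zpowers x ⊓ zpowers y = ⊥ := by
    rw [eq_bot_iff]
    exact fun z hz => mem_bot.2 (hdisj z (zpowers_le.2 hx.1 hz.1)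
      ⟨zpowers_le.2 hx.2 hz.1, zpowers_le.2 hy.2 hz.2⟩)
  have h2 : p ^ 2 ≤ Nat.card A := by
    have := Product.card_mul_card_le (zpowers x) (zpowers y)
    rwa [hinf, card_bot, mul_one, Nat.card_zpowers, Nat.card_zpowers, hxp, hyp, ← sq] at this
  have := hEA.1
  have hAH : A ≤ H := sup_le (zpowers_le.2 (hP hx.1)) (zpowers_le.2 (hP hy.1))
  have hKH : N ⊓ M ≤ H := h.pPrime_le hAH (Signalizer.ea_isPGroup hEA)
    (Signalizer.ea_not_isCyclic hEA h2) le_normalizer_of_normal hK
  have hNH : N ≤ H := by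
    intro n hn
    refine h.mem_of_conj (hP hy.1) hyp ?_
    have hk : n * y * n⁻¹ * y⁻¹ ∈ N ⊓ M := by
      refine ⟨?_, M.mul_mem (Normal.conj_mem inferInstance y hy.2 n) (M.inv_mem hy.2)⟩
      rw [show n * y * n⁻¹ * y⁻¹ = n * (y * n⁻¹ * y⁻¹) by group]
      exact N.mul_mem hn (Normal.conj_mem inferInstance n⁻¹ (N.inv_mem hn) y)
    simpa using mul_mem (hKH hk) (hP hy.1)
  refine h.1 (eq_top_iff.2 ?_)
  rw [← FGBasics.normalizer_inf_sup_eq_top P N]
  refine sup_le (h.normalizer_le (inf_le_left.trans hP) (P.isPGroup'.to_le inf_le_left) ?_) hNH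
  intro hb
  have := mem_bot.1 (hb ▸ hx)
  rw [this, orderOf_one] at hxp
  exact hp.ne_one hxp.symm

theorem IsSE.pCore_eq_bot (h : IsSE p H) : Cfsg.pCore p G = ⊥ := by
  by_contra hne
  obtain ⟨P, hP⟩ := h.exists_sylow_le
  have := PBasic.pCore_characteristic p G
  refine h.1 (eq_top_iff.2 ?_)
  rw [← normalizer_eq_top (H := Cfsg.pCore p G)]
  exact h.normalizer_le ((PBasic.pCore_le_sylow P).trans hP) (PBasic.pCore_isPGroup p G) hne

theorem IsSE.abCyclic (h : IsSE p H) (hsol : Cfsg.IsPSolvable p G) {P : Sylow p G}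
    (hP : (P : Subgroup G) ≤ H) : AbCyc.AbCyclic (P : Subgroup G) := by
  intro B hB
  by_contra hnc
  have hp : p.Prime := Fact.out
  set A := B.map (P : Subgroup G).subtype with hA
  have hAP : A ≤ (P : Subgroup G) := map_subtype_le B
  have hAc : IsMulCommutative A := by
    refine .of_setLike_mul_comm ?_
    rintro _ ⟨x, hx, rfl⟩ _ ⟨y, hy, rfl⟩
    rw [← map_mul, setLike_mul_comm (s := B) hx hy, map_mul]
  have hnc' : ¬ IsCyclic A := fun hc => hnc
    (isCyclic_of_surjective (B.equivMapOfInjective _ (P : Subgroup G).subtype_injective).symm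
      (B.equivMapOfInjective _ (P : Subgroup G).subtype_injective).symm.surjective)
  set K := Cfsg.pPrimeCore p G with hK
  have hKn : K.Normal := by
    have := PBasic.pPrimeCore_characteristic p G; infer_instance
  have hKc := PBasic.pPrimeCore_coprime p G
  have hKH : K ≤ H := h.pPrime_le (hAP.trans hP) (P.isPGroup'.to_le hAP) hnc' le_normalizer_of_normal
    (hp.coprime_iff_not_dvd.1 hKc.symm)
  set f := QuotientGroup.mk' K
  have hfs : Function.Surjective f := QuotientGroup.mk'_surjective K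
  have hnt : Nontrivial (G ⧸ K) := by
    rcases subsingleton_or_nontrivial (G ⧸ K) with hs | hn
    · exfalso
      have hKtop : K = ⊤ := eq_top_iff.2 fun x _ => (QuotientGroup.eq_one_iff x).1 (Subsingleton.elim _ _)
      rw [hKtop] at hKH
      exact h.1 (top_le_iff.1 hKH)
    · exact hn
  set T := (Cfsg.pCore p (G ⧸ K)).comap f with hT
  have hne : Cfsg.pCore p (G ⧸ K) ≠ ⊥ := by
    rcases PSolvable.exists_core_ne_bot (PSolvable.quotient K hsol) with h1 | h1
    · exact h1
    · exact absurd (PBasic.pPrimeCore_quotient_pPrimeCore p G) h1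
  have hTn : T.Normal := by
    have := PBasic.pCore_characteristic p (G ⧸ K)
    exact (inferInstance : (Cfsg.pCore p (G ⧸ K)).Normal).comap f
  have hTle : T ≤ ((P : Subgroup G) ⊓ T) ⊔ K := by
    intro t ht
    have ht2 : f t ∈ Cfsg.pCore p (G ⧸ K) := ht
    obtain ⟨s, hs, es⟩ := PBasic.pCore_le_sylow (P.mapSurjective hfs) ht2
    have hk : s⁻¹ * t ∈ K := (QuotientGroup.eq).1 es
    have hsT : s ∈ T := show f s ∈ Cfsg.pCore p (G ⧸ K) by rw [es]; exact ht2
    simpa using mul_mem (mem_sup_left (T := K) (mem_inf.2 ⟨hs, hsT⟩))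
      (mem_sup_right (S := (P : Subgroup G) ⊓ T) hk)
  refine h.1 (eq_top_iff.2 ?_)
  rw [← FGBasics.normalizer_inf_sup_eq_top P T]
  refine sup_le (h.normalizer_le (inf_le_left.trans hP) (P.isPGroup'.to_le inf_le_left) ?_)
    (hTle.trans (sup_le (inf_le_left.trans hP) hKH))
  intro hb
  rw [hb, bot_sup_eq] at hTle
  refine hne (eq_bot_iff.2 fun u hu => mem_bot.2 ?_)
  obtain ⟨t, rfl⟩ := hfs u
  exact (QuotientGroup.eq_one_iff t).2 (hTle hu)

theorem exists_se_of_unique (hO : Cfsg.pCore p G = ⊥) (hdiv : p ∣ Nat.card G)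
    (P : Sylow p G) (huniq : ∀ x y : (P : Subgroup G), orderOf x = p → orderOf y = p → zpowers x = zpowers y) :
    ∃ H : Subgroup G, IsSE p H := by
  have hp : p.Prime := Fact.out
  obtain ⟨z, hzP, hzp⟩ := LESylow.exists_orderOf_eq (P.dvd_card_of_dvd_card hdiv)
  set Z := zpowers z with hZ
  have hZp : IsPGroup p Z := LESylow.isPGroup_zpowers (k := 1) (by rw [hzp, pow_one])
  set N := normalizer (Z : Set G) with hN
  have hu : ∀ a ∈ N, orderOf a = p → zpowers a = Z := by
    intro a ha hap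
    have hU : IsPGroup p (zpowers a ⊔ Z : Subgroup G) :=
      IsPGroup.to_sup_of_normal_right' (LESylow.isPGroup_zpowers (k := 1) (by rw [hap, pow_one])) hZp
        (zpowers_le.2 ha)
    obtain ⟨S, hS⟩ := hU.exists_le_sylow
    have ha' : a ∈ (S : Subgroup G) := hS (mem_sup_left (mem_zpowers a))
    have hz' : z ∈ (S : Subgroup G) := hS (mem_sup_right (mem_zpowers z))
    let e := Sylow.equiv S P
    have h1 : zpowers (e ⟨a, ha'⟩) = zpowers (e ⟨z, hz'⟩) := huniq _ _
      (by rw [MulEquiv.orderOf_eq, Subgroup.orderOf_mk, hap])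
      (by rw [MulEquiv.orderOf_eq, Subgroup.orderOf_mk, hzp])
    rw [← MulEquiv.coe_toMonoidHom, ← MonoidHom.map_zpowers, ← MonoidHom.map_zpowers] at h1
    have h2 := congrArg (Subgroup.map (S : Subgroup G).subtype) (map_injective e.injective h1)
    rwa [MonoidHom.map_zpowers, MonoidHom.map_zpowers] at h2
  refine ⟨N, fun htop => ?_, ?_, fun g hg hd => hg ?_⟩
  · have hn : Z.Normal := normalizer_eq_top_iff.1 htop
    have := PBasic.le_pCore hn hZp
    rw [hO, le_bot_iff, zpowers_eq_bot] at this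
    rw [this, orderOf_one] at hzp
    exact hp.ne_one hzp.symm
  · rw [← hzp, ← Nat.card_zpowers]
    exact card_dvd_of_le le_normalizer
  · obtain ⟨a, ha, hap⟩ := LESylow.exists_orderOf_eq hd
    obtain ⟨haN, b, hb, e⟩ := mem_inf.1 ha
    have e' : (MulAut.conj g) b = a := e
    have hbp : orderOf b = p := by rw [← MulEquiv.orderOf_eq (MulAut.conj g) b, e', hap]
    rw [hN, ← LEBasic.map_conj_eq_iff_mem_normalizer]
    conv_lhs => rw [← hu b hb hbp, MonoidHom.map_zpowers]
    exact (congrArg zpowers e').trans (hu a haN hap)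

theorem quaternion_unique (n : ℕ) [NeZero n] (x y : QuaternionGroup n)
    (hx : orderOf x = 2) (hy : orderOf y = 2) : x = y := by
  have key : ∀ x : QuaternionGroup n, orderOf x = 2 → x = QuaternionGroup.a (n : ZMod (2 * n)) := by
    intro x hx
    rcases x with i | i
    · have h2 := pow_orderOf_eq_one (QuaternionGroup.a i)
      rw [hx, sq, QuaternionGroup.a_mul_a, QuaternionGroup.one_def] at h2
      injection h2 with h3
      congr 1
      have hne : i ≠ 0 := by
        rintro rfl
        rw [← QuaternionGroup.one_def, orderOf_one] at hx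
        omega
      have h4 : ((i.val + i.val : ℕ) : ZMod (2 * n)) = 0 := by
        push_cast
        rw [ZMod.natCast_zmod_val]; exact h3
      rw [ZMod.natCast_eq_zero_iff] at h4
      have h5 : i.val < 2 * n := ZMod.val_lt i
      have h6 : i.val ≠ 0 := fun h => hne ((ZMod.val_eq_zero i).1 h)
      obtain ⟨k, hk⟩ := h4
      have hk1 : k < 2 := by
        by_contra hc
        have : 2 * n * 2 ≤ 2 * n * k := Nat.mul_le_mul_left _ (by omega)
        omega
      interval_cases k
      · omega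
      · rw [← ZMod.natCast_zmod_val i, show i.val = n by omega]
    · rw [QuaternionGroup.orderOf_xa] at hx
      omega
  rw [key x hx, key y hy]

theorem unique_of_cases {P : Type*} [Group P] [Finite P]
    (h : IsCyclic P ∨ (p = 2 ∧ ∃ n : ℕ, Nonempty (P ≃* QuaternionGroup (2 ^ n))))
    (x y : P) (hx : orderOf x = p) (hy : orderOf y = p) : zpowers x = zpowers y := by
  rcases h with hc | ⟨rfl, n, ⟨e⟩⟩
  · have := hc
    classical
    have := Fintype.ofFinite P
    have hle := IsCyclic.card_pow_eq_one_le (α := P) (n := p) (Fact.out : p.Prime).pos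
    have hsub : ∀ z : P, orderOf z = p → (Finset.univ.filter (· ∈ zpowers z)) =
        Finset.univ.filter (fun a : P => a ^ p = 1) := by
      intro z hz
      refine Finset.eq_of_subset_of_card_le ?_ (hle.trans ?_)
      · intro a ha
        simp only [Finset.mem_filter, Finset.mem_univ, true_and] at ha ⊢
        obtain ⟨i, rfl⟩ := mem_zpowers_iff.1 ha
        rw [← zpow_natCast, ← zpow_mul, mul_comm, zpow_mul, zpow_natCast, ← hz, pow_orderOf_eq_one, one_zpow]
      · rw [← hz, ← Nat.card_zpowers, Nat.card_eq_fintype_card, Fintype.card_subtype]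
    ext a
    have h3 := (hsub x hx).trans (hsub y hy).symm
    simpa using Finset.ext_iff.1 h3 a
  · have : NeZero (2 ^ n) := ⟨pow_ne_zero n two_ne_zero⟩
    have h1 : e x = e y := quaternion_unique (2 ^ n) _ _ (by rw [MulEquiv.orderOf_eq, hx])
      (by rw [MulEquiv.orderOf_eq, hy])
    rw [e.injective h1]

end Cfsg.Agent.SylowConn
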