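/-
Control of Sylow intersections and strong control of fusion.
-/
import Cfsg.Prelude.Def_SylowControl
import Cfsg.Agent.Lib.SylowChains.Basic

set_option autoImplicit false
set_option linter.unusedSectionVars false

namespace Cfsg.Agent.SylowCtrl

open scoped Pointwise
open Cfsg.Agent.LEBasic Cfsg.Agent.SylowConn

variable {G : Type*} [Group G] {p : ℕ}

/-- Product of the first `i` terms. -/
def pre {n : ℕ} (y : Fin n → G) (i : ℕ) : G := ((List.ofFn y).take i).prod

theorem pre_zero {n : ℕ} (y : Fin n → G) : pre y 0 = 1 := by simp [pre]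

theorem pre_succ {n : ℕ} (y : Fin n → G) (i : Fin n) : pre y (i.val + 1) = pre y i.val * y i := by
  have h : i.val < (List.ofFn y).length := by simp
  rw [pre, pre, List.prod_take_succ _ _ h]
  simp

theorem pre_all {n : ℕ} (y : Fin n → G) : pre y n = (List.ofFn y).prod := by
  rw [pre, List.take_of_length_le (by simp)]

theorem pre_eq_of_diff {n : ℕ} (z : Fin (n + 1) → G) (hz : z 0 = 1) (i : Fin (n + 1)) :
    pre (fun j : Fin n => (z j.castSucc)⁻¹ * z j.succ) i.val = z i := by
  induction i using Fin.induction with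
  | zero => simp [pre_zero, hz]
  | succ i ih =>
    rw [Fin.val_succ, pre_succ]
    rw [Fin.val_castSucc] at ih
    rw [ih, mul_inv_cancel_left]

theorem conjRight_subset_iff {g : G} {A : Set G} {K : Subgroup G} :
    Cfsg.conjRight g A ⊆ (K : Set G) ↔ A ⊆ ((K.map (MulAut.conj g).toMonoidHom : Subgroup G) : Set G) := by
  simp only [Cfsg.conjRight, Set.image_subset_iff]
  constructor <;> intro h a ha
  · exact mem_map_conj.2 (h ha)
  · exact mem_map_conj.1 (h ha)

variable [Finite G] [Fact p.Prime]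

theorem member_conj {𝓕 : Set (Subgroup G)} (h𝓕 : Cfsg.IsNormalSet 𝓕) {X S : Subgroup G} (g : G)
    (hX : X ∈ Cfsg.sylowMembers p 𝓕 S) :
    X.map (MulAut.conj g).toMonoidHom ∈ Cfsg.sylowMembers p 𝓕 (S.map (MulAut.conj g).toMonoidHom) := by
  obtain ⟨hF, P, hP⟩ := hX
  refine ⟨?_, ?_⟩
  · have := h𝓕 X hF g⁻¹
    rwa [Cfsg.subgroupConjRight, inv_inv] at this
  · set e := X.equivMapOfInjective (MulAut.conj g).toMonoidHom (MulAut.conj g).injective
    refine ⟨P.mapSurjective (f := e.toMonoidHom) e.surjective, ?_⟩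
    show Subgroup.map _ (Subgroup.map e.toMonoidHom (P : Subgroup ↥X)) = _
    rw [Subgroup.map_map, ← Subgroup.map_inf _ _ _ (MulAut.conj g).injective, ← hP, Subgroup.map_map]
    congr 1

theorem controls_iff {𝓕 : Set (Subgroup G)} (h𝓕 : Cfsg.IsNormalSet 𝓕) :
    Cfsg.ControlsSylowIntersections p 𝓕 ↔ Cfsg.FamilyStronglyControlsFusion p 𝓕 := by
  constructor
  · intro hc S A g hAS hA1 hAg
    by_cases hgS : g • S = S
    · refine ⟨0, Fin.elim0, Fin.elim0, g, Sylow.smul_eq_iff_mem_normalizer.1 hgS,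
        fun i => i.elim0, by simp, fun i => i.elim0⟩
    have hAT : A ⊆ ((g • S : Sylow p G) : Subgroup G) := by
      rw [coe_smul']; exact conjRight_subset_iff.1 hAg
    have hne : (S : Subgroup G) ⊓ ((g • S : Sylow p G) : Subgroup G) ≠ ⊥ := by
      intro hb
      obtain ⟨a, ha, ha1⟩ := hA1
      exact ha1 (Subgroup.mem_bot.1 (hb ▸ Subgroup.mem_inf.2 ⟨hAS ha, hAT ha⟩))
    obtain ⟨n, c, X, x, h0, hn, h⟩ := hc S (g • S) (fun e => hgS e.symm) hne
    let z : Fin (n + 1) → G := Fin.induction 1 (fun i zi => x i * zi)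
    have hz0 : z 0 = 1 := rfl
    have hzs : ∀ i : Fin n, z i.succ = x i * z i.castSucc := fun i => Fin.induction_succ _ _ i
    have hcz : ∀ i : Fin (n + 1), (c i : Subgroup G) = (S : Subgroup G).map (MulAut.conj (z i)).toMonoidHom := by
      intro i
      induction i using Fin.induction with
      | zero => rw [h0, hz0, map_conj_one]
      | succ i ih =>
        have h4 : (c i.succ : Subgroup G).map (MulAut.conj (x i)⁻¹).toMonoidHom = (c i.castSucc : Subgroup G) :=
          (h i).2.2.2.1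
        rw [hzs, ← map_conj_map_conj, ← ih, ← h4, map_conj_map_conj, mul_inv_cancel, map_conj_one]
    refine ⟨n, fun i => (X i).map (MulAut.conj (z i.castSucc)⁻¹).toMonoidHom,
      fun i => (z i.castSucc)⁻¹ * z i.succ, (z (Fin.last n))⁻¹ * g, ?_, fun i => ⟨?_, ?_⟩, ?_, fun i => ?_⟩
    · have h1 := hcz (Fin.last n)
      rw [hn, coe_smul'] at h1
      rw [← map_conj_eq_iff_mem_normalizer, ← map_conj_map_conj, h1, map_conj_map_conj,
        inv_mul_cancel, map_conj_one]
    · have h1 := member_conj h𝓕 (z i.castSucc)⁻¹ (h i).1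
      rwa [hcz, map_conj_map_conj, inv_mul_cancel, map_conj_one] at h1
    · simp only [mem_map_conj, inv_inv, hzs]
      simpa [mul_assoc] using (h i).2.2.1
    · have h' := pre_eq_of_diff z hz0 (Fin.last n)
      rw [Fin.val_last, pre_all] at h'
      rw [h', mul_inv_cancel_left]
    · show Cfsg.conjRight (pre _ (i.succ).val) A ⊆ ((S : Subgroup G) : Set G) ∩
        (((X i).map (MulAut.conj (z i.castSucc)⁻¹).toMonoidHom : Subgroup G) : Set G)
      rw [pre_eq_of_diff z hz0, ← Subgroup.coe_inf, conjRight_subset_iff,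
        Subgroup.map_inf _ _ _ (MulAut.conj _).injective, ← hcz, map_conj_map_conj,
        hzs, mul_inv_cancel_right]
      have hxX : (X i).map (MulAut.conj (x i)).toMonoidHom = X i :=
        map_conj_eq_iff_mem_normalizer.2 (Subgroup.le_normalizer (h i).2.2.1)
      rw [hxX]
      exact fun a ha => (h i).2.2.2.2 (Subgroup.mem_inf.2 ⟨hAS ha, hAT ha⟩)
  · intro hf S T hST hne
    obtain ⟨g, rfl⟩ := MulAction.exists_smul_eq G S T
    obtain ⟨n, Y, y, y₀, hy₀, hY, hg, hA⟩ := hf S
      (((S : Subgroup G) ⊓ ((g • S : Sylow p G) : Subgroup G) : Subgroup G) : Set G) g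
      (fun a ha => (Subgroup.mem_inf.1 ha).1) ((Subgroup.bot_or_exists_ne_one _).resolve_left hne)
      (conjRight_subset_iff.2 (by rw [← coe_smul']; exact fun a ha => (Subgroup.mem_inf.1 ha).2))
    refine ⟨n, fun i => pre y i.val • S, fun i => (Y i).map (MulAut.conj (pre y i.val)).toMonoidHom,
      fun i => pre y i.val * y i * (pre y i.val)⁻¹, by simp [pre_zero], ?_, fun i => ?_⟩
    · simp only [Fin.val_last, pre_all]
      rw [hg, mul_smul, Sylow.smul_eq_iff_mem_normalizer.2 hy₀]
    · have hyY : (Y i).map (MulAut.conj (y i)).toMonoidHom = Y i :=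
        map_conj_eq_iff_mem_normalizer.2 (Subgroup.le_normalizer (hY i).2)
      simp only [Fin.val_castSucc, Fin.val_succ]
      refine ⟨?_, ?_, ?_, ?_, ?_⟩
      · rw [coe_smul']; exact member_conj h𝓕 _ (hY i).1
      · have h1 := member_conj h𝓕 (pre y (i.val + 1)) (hY i).1
        rw [coe_smul']
        rwa [pre_succ, ← map_conj_map_conj (Y i), hyY, ← pre_succ] at h1
      · rw [mem_map_conj]
        simpa [mul_assoc] using (hY i).2
      · rw [Cfsg.subgroupConjRight, coe_smul', coe_smul', map_conj_map_conj, pre_succ]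
        congr 3
        group
      · have h1 : Cfsg.conjRight ((List.ofFn y).take (i.val + 1)).prod
            (((S : Subgroup G) ⊓ ((g • S : Sylow p G) : Subgroup G) : Subgroup G) : Set G) ⊆
            ((S : Subgroup G) : Set G) ∩ (Y i : Set G) := hA i
        rw [← Subgroup.coe_inf, show ((List.ofFn y).take (i.val + 1)).prod = pre y (i.val + 1) from rfl,
          conjRight_subset_iff, Subgroup.map_inf _ _ _ (MulAut.conj _).injective] at h1
        intro a ha
        have h2 := h1 ha
        rw [SetLike.mem_coe, pre_succ, ← map_conj_map_conj (Y i), hyY, ← pre_succ, ← coe_smul'] at h2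
        exact h2

theorem generated_eq_top {𝓕 : Set (Subgroup G)} (h𝓕 : Cfsg.IsNormalSet 𝓕)
    (hc : Cfsg.ControlsSylowIntersections p 𝓕) (hconn : Cfsg.IsSylowChainConnected p G) (S : Sylow p G) :
    (⨆ X ∈ Cfsg.sylowMembers p 𝓕 (S : Subgroup G), X) ⊔
      Subgroup.normalizer ((S : Subgroup G) : Set G) = ⊤ := by
  set W := (⨆ X ∈ Cfsg.sylowMembers p 𝓕 (S : Subgroup G), X) ⊔
      Subgroup.normalizer ((S : Subgroup G) : Set G) with hW
  have hfix : ∀ g : G, g • S = S → g ∈ W := fun g hg =>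
    Subgroup.mem_sup_right (Sylow.smul_eq_iff_mem_normalizer.1 hg)
  have key : ∀ g : G, (S : Subgroup G) ⊓ ((g • S : Sylow p G) : Subgroup G) ≠ ⊥ → g ∈ W := by
    intro g hne
    obtain ⟨n, Y, y, y₀, hy₀, hY, hg, -⟩ := (controls_iff h𝓕).1 hc S
      (((S : Subgroup G) ⊓ ((g • S : Sylow p G) : Subgroup G) : Subgroup G) : Set G) g
      (fun a ha => (Subgroup.mem_inf.1 ha).1) ((Subgroup.bot_or_exists_ne_one _).resolve_left hne)
      (conjRight_subset_iff.2 (by rw [← coe_smul']; exact fun a ha => (Subgroup.mem_inf.1 ha).2))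
    rw [hg]
    refine mul_mem (list_prod_mem fun t ht => ?_) (Subgroup.mem_sup_right hy₀)
    obtain ⟨i, rfl⟩ := List.mem_ofFn.1 ht
    exact Subgroup.mem_sup_left (Subgroup.mem_iSup_of_mem (Y i)
      (Subgroup.mem_iSup_of_mem (hY i).1 (hY i).2))
  rw [eq_top_iff]
  intro g _
  obtain ⟨n, c, h0, hn, -, hadj⟩ := hconn S (g • S)
  have hall : ∀ i : Fin (n + 1), ∃ k ∈ W, k • S = c i := by
    intro i
    induction i using Fin.induction with
    | zero => exact ⟨1, one_mem _, by rw [one_smul, h0]⟩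
    | succ i ih =>
      obtain ⟨k, hk, hkc⟩ := ih
      obtain ⟨l, hl⟩ := MulAction.exists_smul_eq G S (c i.succ)
      have h1 : k⁻¹ * l ∈ W := key _ fun hb => (hadj i).2 (by
        rw [← hkc, ← hl, show l • S = k • ((k⁻¹ * l) • S) by rw [← mul_smul, mul_inv_cancel_left],
          coe_smul', coe_smul' k ((k⁻¹ * l) • S), ← Subgroup.map_inf _ _ _ (MulAut.conj k).injective,
          hb, Subgroup.map_bot])
      exact ⟨l, by simpa using mul_mem hk h1, hl⟩
  obtain ⟨k, hk, hkc⟩ := hall (Fin.last n)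
  rw [hn] at hkc
  simpa using mul_mem hk (hfix (k⁻¹ * g) (by rw [mul_smul, ← hkc, inv_smul_smul]))

end Cfsg.Agent.SylowCtrl
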