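import Cfsg.Prelude.Def_SylowControl
import Cfsg.Agent.Lib.SylowChains.Basic

/-!
# Regular subgroups for a normalizer functor containing a Sylow subgroup
-/

set_option autoImplicit false
set_option linter.unusedSectionVars false

namespace Cfsg.Agent.SylowReg

open scoped Pointwise
open Cfsg.Agent.SylowConn

variable {G : Type*} [Group G] [Finite G] {p : ℕ} [Fact p.Prime] {f : Subgroup G → Set (Subgroup G)}

/-- One step of a chain inside `M` above `R`. -/
def Step (f : Subgroup G → Set (Subgroup G)) (M R : Subgroup G) (a b : Sylow p G) : Prop :=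
  R ≤ b ∧ ∃ P : Sylow p G, (P : Subgroup G) ≤ M ∧ ∃ F ∈ f (P : Subgroup G),
    (a : Subgroup G) ≤ M ⊓ Subgroup.normalizer (F : Set G) ∧ (b : Subgroup G) ≤ M ⊓ Subgroup.normalizer (F : Set G)

theorem Step.mono {M M' R R' : Subgroup G} (hM : M ≤ M') (hR : R' ≤ R) {a b : Sylow p G} (h : Step f M R a b) :
    Step f M' R' a b := by
  obtain ⟨hb, P, hP, F, hF, ha, hb'⟩ := h
  exact ⟨hR.trans hb, P, hP.trans hM, F, hF, ha.trans (inf_le_inf_right _ hM), hb'.trans (inf_le_inf_right _ hM)⟩

theorem Step.smul (hf : Cfsg.IsNormalizerFunctor p f) {M R : Subgroup G} (g : G) {a b : Sylow p G}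
    (h : Step f M R a b) :
    Step f (M.map (MulAut.conj g).toMonoidHom) (R.map (MulAut.conj g).toMonoidHom) (g • a) (g • b) := by
  obtain ⟨hb, P, hP, F, hF, ha, hb'⟩ := h
  refine ⟨?_, g • P, ?_, F.map (MulAut.conj g).toMonoidHom, ?_, ?_, ?_⟩
  · rw [coe_smul']; exact Subgroup.map_mono hb
  · rw [coe_smul']; exact Subgroup.map_mono hP
  · rw [coe_smul', (hf _ P.2).2 g]
    exact ⟨F, hF, rfl⟩
  all_goals
    rw [coe_smul', show Subgroup.normalizer ((F.map (MulAut.conj g).toMonoidHom : Subgroup G) : Set G) =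
      (Subgroup.normalizer (F : Set G)).map (MulAut.conj g).toMonoidHom from
        (Subgroup.map_equiv_normalizer_eq F (MulAut.conj g)).symm,
      ← Subgroup.map_inf _ _ _ (MulAut.conj g).injective]
  exacts [Subgroup.map_mono ha, Subgroup.map_mono hb']

/-- A Sylow subgroup of `M` is one of `G` when `M` contains one. -/
theorem exists_sylow_map {M : Subgroup G} {S : Sylow p G} (hS : (S : Subgroup G) ≤ M) (Q : Sylow p M) :
    ∃ U : Sylow p G, (U : Subgroup G) = (Q : Subgroup M).map M.subtype := by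
  refine ⟨Sylow.ofCard _ ?_, Sylow.coe_ofCard _ _⟩
  rw [Subgroup.card_map_of_injective M.subtype_injective, ← S.card_eq_multiplicity,
    show Nat.card Q = Nat.card (S.subtype hS) by rw [Q.card_eq_multiplicity, Sylow.card_eq_multiplicity],
    Sylow.coe_subtype]
  exact Nat.card_congr (Subgroup.subgroupOfEquivOfLe hS).toEquiv

/-- Chains extracted from regularity. -/
theorem chain_of_regular {M : Subgroup G} (hf : Cfsg.IsNormalizerFunctor p f)
    (hr : Cfsg.IsFunctorRegular p f M) {a b : Sylow p G} (ha : (a : Subgroup G) ≤ M) (hb : (b : Subgroup G) ≤ M)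
    (hne : (a : Subgroup G) ⊓ b ≠ ⊥) :
    Relation.ReflTransGen (Step f M ((a : Subgroup G) ⊓ b)) a b := by
  by_cases hab : a = b
  · subst hab; exact .refl
  have hne' : (a.subtype ha : Subgroup M) ⊓ (b.subtype hb : Subgroup M) ≠ ⊥ := by
    intro h
    refine hne ?_
    rw [Sylow.coe_subtype, Sylow.coe_subtype] at h
    rw [Subgroup.eq_bot_iff_forall]
    intro x hx
    obtain ⟨hxa, hxb⟩ := Subgroup.mem_inf.1 hx
    have : (⟨x, ha hxa⟩ : M) ∈ a.subgroupOf M ⊓ (b : Subgroup G).subgroupOf M := ⟨hxa, hxb⟩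
    rw [h, Subgroup.mem_bot] at this
    exact congrArg Subtype.val this
  obtain ⟨n, c, X, x, h0, hn, h⟩ := hr (a.subtype ha) (b.subtype hb)
    (fun e => hab (Sylow.ext (by
      have h1 := congrArg (Subgroup.map M.subtype) (congrArg (fun U : Sylow p M => (U : Subgroup M)) e)
      simpa [Subgroup.map_subgroupOf_eq_of_le ha, Subgroup.map_subgroupOf_eq_of_le hb] using h1))) hne'
  choose C hC using fun i => exists_sylow_map ha (c i)
  have key : ∀ i, Relation.ReflTransGen (Step f M ((a : Subgroup G) ⊓ b)) a (C i) := by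
    intro i
    induction i using Fin.induction with
    | zero =>
      rw [show C 0 = a from Sylow.ext (by
        rw [hC, h0, Sylow.coe_subtype, Subgroup.map_subgroupOf_eq_of_le ha])]
    | succ i ih =>
      refine ih.tail ?_
      obtain ⟨⟨⟨Y, ⟨P, F, hF, rfl⟩, hY⟩, Q, hQ⟩, ⟨-, Q', hQ'⟩, -, -, hR⟩ := h i
      obtain ⟨P', hP'⟩ := exists_sylow_map ha P
      have hPX : (P' : Subgroup G) ≤ M ⊓ Subgroup.normalizer (F : Set G) := by
        refine le_inf (hP' ▸ Subgroup.map_subtype_le _) (Subgroup.le_normalizer.trans ?_)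
        rw [← hP'] at hF
        exact ((hf _ P'.2).1 F hF).2
      -- a Sylow subgroup meeting the member in a Sylow subgroup lies in it
      have hle : ∀ (j : Fin (n + 1)) (Q : Sylow p (X i)),
          (Q : Subgroup (X i)).map (X i).subtype = (c j : Subgroup M) ⊓ X i →
            (C j : Subgroup G) ≤ M ⊓ Subgroup.normalizer (F : Set G) := by
        intro j Q hQ
        have hPX' : ((P : Subgroup M)) ≤ X i := fun y hy => by
          rw [← hY]
          exact hPX (hP'.ge ⟨y, hy, rfl⟩)
        have h1 : Nat.card (c j : Subgroup M) ≤ Nat.card ((c j : Subgroup M) ⊓ X i : Subgroup M) := by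
          rw [← hQ, Subgroup.card_map_of_injective (X i).subtype_injective,
            show Nat.card (c j : Subgroup M) = Nat.card (P : Subgroup M) by
              rw [(c j).card_eq_multiplicity, P.card_eq_multiplicity],
            ← Nat.card_congr (Subgroup.subgroupOfEquivOfLe hPX').toEquiv]
          obtain ⟨Q'', hQ''⟩ := (P.2.comap_of_injective _ (X i).subtype_injective).exists_le_sylow
          refine (Subgroup.card_le_of_le hQ'').trans (le_of_eq ?_)
          rw [Q''.card_eq_multiplicity, Q.card_eq_multiplicity]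
        have h2 : (c j : Subgroup M) ≤ X i :=
          inf_eq_left.1 (Subgroup.eq_of_le_of_card_ge inf_le_left h1)
        rw [hC]
        rintro _ ⟨y, hy, rfl⟩
        have h3 := h2 hy
        rw [← hY] at h3
        exact h3
      refine ⟨?_, P', hP' ▸ Subgroup.map_subtype_le _, F, hP'.symm ▸ hF, hle _ Q hQ, hle _ Q' hQ'⟩
      intro y hy
      obtain ⟨hya, hyb⟩ := Subgroup.mem_inf.1 hy
      rw [hC]
      exact ⟨⟨y, ha hya⟩, (Subgroup.mem_inf.1 (hR (show (⟨y, ha hya⟩ : M) ∈
        (a.subtype ha : Subgroup M) ⊓ (b.subtype hb : Subgroup M) from ⟨hya, hyb⟩))).1, rfl⟩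
  have := key (Fin.last n)
  rwa [show C (Fin.last n) = b from Sylow.ext (by
    rw [hC, hn, Sylow.coe_subtype, Subgroup.map_subgroupOf_eq_of_le hb])] at this

/-- Regularity from chains. -/
theorem regular_of_chain {M : Subgroup G} (hf : Cfsg.IsNormalizerFunctor p f) {S : Sylow p G}
    (hS : (S : Subgroup G) ≤ M)
    (h : ∀ a b : Sylow p G, (a : Subgroup G) ≤ M → (b : Subgroup G) ≤ M → (a : Subgroup G) ⊓ b ≠ ⊥ →
      Relation.ReflTransGen (Step f M ((a : Subgroup G) ⊓ b)) a b) :
    Cfsg.IsFunctorRegular p f M := by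
  intro s t _ hst
  obtain ⟨a, ha⟩ := exists_sylow_map hS s
  obtain ⟨b, hb⟩ := exists_sylow_map hS t
  have haM : (a : Subgroup G) ≤ M := ha ▸ Subgroup.map_subtype_le _
  have hbM : (b : Subgroup G) ≤ M := hb ▸ Subgroup.map_subtype_le _
  have hab : (a : Subgroup G) ⊓ b = ((s : Subgroup M) ⊓ (t : Subgroup M)).map M.subtype := by
    rw [ha, hb, Subgroup.map_inf _ _ _ M.subtype_injective]
  have hne : (a : Subgroup G) ⊓ b ≠ ⊥ := by
    rw [hab, ne_eq, Subgroup.map_eq_bot_iff_of_injective _ M.subtype_injective]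
    exact hst
  have hab' := h a b haM hbM hne
  have key : ∀ u : Sylow p G, Relation.ReflTransGen (Step f M ((a : Subgroup G) ⊓ b)) a u →
      (u : Subgroup G) ≤ M ∧ ∀ hu : (u : Subgroup G) ≤ M,
      ∃ (n : ℕ) (c : Fin (n + 1) → Sylow p M) (X : Fin n → Subgroup M) (x : Fin n → M),
        c 0 = s ∧ c (Fin.last n) = u.subtype hu ∧ ∀ i : Fin n,
          X i ∈ Cfsg.sylowMembers p ((fun Y : Subgroup G => Y.subgroupOf M) '' Cfsg.functorFamily p f M) (c i.castSucc : Subgroup M) ∧
          X i ∈ Cfsg.sylowMembers p ((fun Y : Subgroup G => Y.subgroupOf M) '' Cfsg.functorFamily p f M) (c i.succ : Subgroup M) ∧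
          x i ∈ X i ∧ Cfsg.subgroupConjRight (x i) (c i.succ : Subgroup M) = (c i.castSucc : Subgroup M) ∧
          (s : Subgroup M) ⊓ (t : Subgroup M) ≤ (c i.succ : Subgroup M) ⊓ X i := by
    intro u hu
    induction hu with
    | refl =>
      refine ⟨haM, fun hu => ⟨0, fun _ => s, Fin.elim0, Fin.elim0, rfl, ?_, fun i => i.elim0⟩⟩
      refine Sylow.ext ?_
      show (s : Subgroup M) = (a : Subgroup G).subgroupOf M
      rw [ha, Subgroup.subgroupOf, Subgroup.comap_map_eq_self_of_injective M.subtype_injective]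
    | @tail v w _ hvw ih =>
      obtain ⟨hR, P, hP, F, hF, hvX, hwX⟩ := hvw
      obtain ⟨hvM, ih⟩ := ih
      obtain ⟨n, c, X, x, h0, hlast, hi⟩ := ih hvM
      have hwM : (w : Subgroup G) ≤ M := hwX.trans inf_le_left
      refine ⟨hwM, fun hu => ?_⟩
      set Y := (M ⊓ Subgroup.normalizer (F : Set G)).subgroupOf M with hY
      have hmem : Y ∈ (fun Y : Subgroup G => Y.subgroupOf M) '' Cfsg.functorFamily p f M :=
        ⟨_, ⟨P.subtype hP, F, by rwa [Sylow.coe_subtype, Subgroup.map_subgroupOf_eq_of_le hP], rfl⟩, rfl⟩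
      have hin : ∀ (z : Sylow p G) (hzM : (z : Subgroup G) ≤ M), (z : Subgroup G) ≤ M ⊓ Subgroup.normalizer (F : Set G) →
          (z.subtype hzM : Subgroup M) ≤ Y := fun z hzM hz y hy => hz hy
      have hv' := hin v hvM hvX
      have hw' := hin w hu hwX
      have hmemb : ∀ z : Sylow p M, (z : Subgroup M) ≤ Y → Y ∈ Cfsg.sylowMembers p
          ((fun Y : Subgroup G => Y.subgroupOf M) '' Cfsg.functorFamily p f M) (z : Subgroup M) := fun z hz =>
        ⟨hmem, z.subtype hz, by rw [Sylow.coe_subtype, Subgroup.map_subgroupOf_eq_of_le hz, inf_eq_left.2 hz]⟩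
      obtain ⟨y, hy⟩ := MulAction.exists_smul_eq Y ((v.subtype hvM).subtype hv') ((w.subtype hu).subtype hw')
      have hconj : Cfsg.subgroupConjRight (y : M) (w.subtype hu : Subgroup M) = (v.subtype hvM : Subgroup M) := by
        have h1 := congrArg (Subgroup.map Y.subtype) (congrArg (fun U : Sylow p Y => (U : Subgroup Y)) hy)
        simp only [Sylow.coe_subtype] at h1
        rw [coe_smul', Sylow.coe_subtype, Subgroup.map_subgroupOf_eq_of_le (show (w : Subgroup G).subgroupOf M ≤ Y from hw'), Subgroup.map_map,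
          show Y.subtype.comp (MulAut.conj y).toMonoidHom = (MulAut.conj (y : M)).toMonoidHom.comp Y.subtype from
            MonoidHom.ext fun z => rfl,
          ← Subgroup.map_map, Subgroup.map_subgroupOf_eq_of_le hv', Sylow.coe_subtype] at h1
        rw [Cfsg.subgroupConjRight, Sylow.coe_subtype, Sylow.coe_subtype, ← h1, Subgroup.map_map,
          show (MulAut.conj (y : M)⁻¹).toMonoidHom.comp (MulAut.conj (y : M)).toMonoidHom = MonoidHom.id M from
            MonoidHom.ext fun z => by simp [mul_assoc], Subgroup.map_id]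
      refine ⟨n + 1, Fin.snoc c (w.subtype hu), Fin.snoc X Y, Fin.snoc x (y : M), ?_, Fin.snoc_last _ _, ?_⟩
      · rw [← Fin.castSucc_zero, Fin.snoc_castSucc, h0]
      intro i
      induction i using Fin.lastCases with
      | last =>
        rw [Fin.snoc_castSucc, Fin.succ_last, Fin.snoc_last, Fin.snoc_last, Fin.snoc_last, hlast]
        refine ⟨hmemb _ hv', hmemb _ hw', y.2, hconj, fun z hz => ?_⟩
        have hz' : (z : G) ∈ (w : Subgroup G) := hR (hab.ge ⟨z, hz, rfl⟩)
        exact ⟨hz', hw' hz'⟩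
      | cast i =>
        rw [Fin.snoc_castSucc, Fin.succ_castSucc, Fin.snoc_castSucc, Fin.snoc_castSucc, Fin.snoc_castSucc]
        exact hi i
  obtain ⟨-, hk⟩ := key b hab'
  obtain ⟨n, c, X, x, h0, hlast, hi⟩ := hk hbM
  refine ⟨n, c, X, x, h0, hlast.trans (Sylow.ext ?_), hi⟩
  show (b : Subgroup G).subgroupOf M = t
  rw [hb, Subgroup.subgroupOf, Subgroup.comap_map_eq_self_of_injective M.subtype_injective]

end Cfsg.Agent.SylowReg
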